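import Mathlib
import Groth.Agent.H1.HopfSub.Basic
import Groth.Agent.H1.HopfSub.Idem
import Groth.Agent.H83.TkGeneral

/-!
# Extension of rational points along Hopf subalgebras (`k` algebraically closed)

`exists_extend` : if `k` is algebraically closed, `A` a commutative Hopf algebra over `k` (of any
size), `S ≤ A` a Hopf subalgebra, then every `k`-point `φ : S →ₐ[k] k` extends to a `k`-point of `A`.
Zorn's lemma on pairs (Hopf subalgebra `T ⊇ S`, kernel of a point of `T` extending `φ`); the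
one-step extension uses faithful flatness of `A` over Hopf subalgebras (Takeuchi) and the
Nullstellensatz.

Corollaries:
* `exists_point_ne_zero` : a non-nilpotent element is non-zero at some `k`-point (density of
  rational points);
* `exists_lift_of_comap_surjective` : a bialgebra map `ψ : A' → A` which is surjective on prime
  spectra is surjective on `k`-points.
-/

set_option autoImplicit false
universe u
open TensorProduct

namespace Groth.Agent.H1.HopfSub.ExtPoint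
open Groth.Agent.H1.FinHopf Groth.Agent.H1.HopfSub

variable {k : Type u} [Field k] {A : Type u} [CommRing A] [HopfAlgebra k A]

/-- the kernel of a point of a subalgebra, as a subset of `A` -/
def kerSet (T : Subalgebra k A) (ψ : ↥T →ₐ[k] k) : Set A := {a | ∃ h : a ∈ T, ψ ⟨a, h⟩ = 0}

lemma kerSet_subset (T : Subalgebra k A) (ψ : ↥T →ₐ[k] k) : kerSet T ψ ⊆ (T : Set A) :=
  fun _ ⟨h, _⟩ => h

lemma sub_mem_kerSet (T : Subalgebra k A) (ψ : ↥T →ₐ[k] k) {t : A} (ht : t ∈ T) :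
    t - algebraMap k A (ψ ⟨t, ht⟩) ∈ kerSet T ψ := by
  refine ⟨T.sub_mem ht (T.algebraMap_mem _), ?_⟩
  have e : (⟨t - algebraMap k A (ψ ⟨t, ht⟩), T.sub_mem ht (T.algebraMap_mem _)⟩ : ↥T) =
      ⟨t, ht⟩ - algebraMap k ↥T (ψ ⟨t, ht⟩) := Subtype.ext rfl
  rw [e, map_sub, AlgHom.commutes]
  simp

/-- the ideal of `A` generated by the kernel of a point of a Hopf subalgebra is proper
(faithful flatness) -/
lemma span_kerSet_ne_top (T : Subalgebra k A) (hT : IsHopfSub T) (ψ : ↥T →ₐ[k] k) :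
    Ideal.span (kerSet T ψ) ≠ ⊤ := by
  have : Module.FaithfullyFlat ↥T A := Groth.Agent.H83.Tk.hopfSub_faithfullyFlat k A T hT.1 hT.2
  intro htop
  have hI : RingHom.ker (ψ : ↥T →+* k) ≠ ⊤ := RingHom.ker_ne_top _
  apply hI
  have hle : Ideal.span (kerSet T ψ) ≤ (RingHom.ker (ψ : ↥T →+* k)).map (algebraMap ↥T A) := by
    rw [Ideal.span_le]
    rintro a ⟨h, ha⟩
    exact Ideal.mem_map_of_mem (algebraMap ↥T A) (x := ⟨a, h⟩) (RingHom.mem_ker.2 ha)
  have hmap : (RingHom.ker (ψ : ↥T →+* k)).map (algebraMap ↥T A) = ⊤ :=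
    top_le_iff.1 (htop ▸ hle)
  have := Ideal.comap_map_eq_self_of_faithfullyFlat (B := A) (RingHom.ker (ψ : ↥T →+* k))
  rw [hmap, Ideal.comap_top] at this
  exact this.symm

/-- admissible pairs: a Hopf subalgebra `T ⊇ S` together with (the kernel of) a point of `T`
extending `φ` -/
def Adm (S : Subalgebra k A) (φ : ↥S →ₐ[k] k) : Set (Subalgebra k A × Set A) :=
  {p | IsHopfSub p.1 ∧ S ≤ p.1 ∧ p.2 ⊆ (p.1 : Set A) ∧
    (∀ t ∈ p.1, ∃ c : k, t - algebraMap k A c ∈ p.2) ∧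
    Ideal.span p.2 ≠ ⊤ ∧ kerSet S φ ⊆ p.2}

lemma adm_of_point {S : Subalgebra k A} {φ : ↥S →ₐ[k] k} (T : Subalgebra k A) (hT : IsHopfSub T)
    (hST : S ≤ T) (ψ : ↥T →ₐ[k] k) (hφψ : kerSet S φ ⊆ kerSet T ψ) :
    (T, kerSet T ψ) ∈ Adm S φ :=
  ⟨hT, hST, kerSet_subset T ψ, fun t ht => ⟨ψ ⟨t, ht⟩, sub_mem_kerSet T ψ ht⟩,
    span_kerSet_ne_top T hT ψ, hφψ⟩

lemma adm_step [IsAlgClosed k] {S : Subalgebra k A} {φ : ↥S →ₐ[k] k}
    {p : Subalgebra k A × Set A} (hp : p ∈ Adm S φ) (x : A) :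
    ∃ q ∈ Adm S φ, p ≤ q ∧ x ∈ q.1 := by
  classical
  obtain ⟨T, N⟩ := p
  obtain ⟨hT, hST, hNT, hk, hJ, hφ⟩ := hp
  obtain ⟨F, hxF, hFfg, hF⟩ := exists_fg_hopfSub (k := k) (A := A) {x}
  have hxF' : x ∈ F := hxF (by simp)
  have hT' : IsHopfSub (T ⊔ F) := hT.sup hF
  have hTT' : T ≤ T ⊔ F := le_sup_left
  have hFT' : F ≤ T ⊔ F := le_sup_right
  have hNJ : N ⊆ (Ideal.span N : Set A) := Ideal.subset_span
  let n : Ideal ↥(T ⊔ F) := (Ideal.span N).comap (algebraMap ↥(T ⊔ F) A)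
  have hn : n ≠ ⊤ := Ideal.comap_ne_top _ hJ
  let π : ↥(T ⊔ F) →ₐ[k] (↥(T ⊔ F) ⧸ n) := Ideal.Quotient.mkₐ k n
  have hπ0 : ∀ (a : A) (h : a ∈ T ⊔ F), a ∈ Ideal.span N → π ⟨a, h⟩ = 0 := fun a h haJ =>
    Ideal.Quotient.eq_zero_iff_mem.2 (Ideal.mem_comap.2 haJ)
  let ι : ↥F →ₐ[k] ↥(T ⊔ F) := Subalgebra.inclusion hFT'
  have hsurj : Function.Surjective (π.comp ι) := by
    let U : Subalgebra k A := ((π.comp ι).range.comap π).map (T ⊔ F).val
    have hTU : T ≤ U := by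
      intro t ht
      obtain ⟨c, hc⟩ := hk t ht
      refine Subalgebra.mem_map.2 ⟨⟨t, hTT' ht⟩, (Subalgebra.mem_comap _ _ _).2 ?_, rfl⟩
      have e : (⟨t, hTT' ht⟩ : ↥(T ⊔ F)) - algebraMap k ↥(T ⊔ F) c =
          ⟨t - algebraMap k A c, (T ⊔ F).sub_mem (hTT' ht) ((T ⊔ F).algebraMap_mem c)⟩ :=
        Subtype.ext rfl
      have h2 : π ((⟨t, hTT' ht⟩ : ↥(T ⊔ F)) - algebraMap k ↥(T ⊔ F) c) = 0 := by
        rw [e]; exact hπ0 _ _ (hNJ hc)
      rw [map_sub, sub_eq_zero, AlgHom.commutes] at h2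
      rw [h2]
      exact Subalgebra.algebraMap_mem _ c
    have hFU : F ≤ U := fun f hf =>
      Subalgebra.mem_map.2 ⟨⟨f, hFT' hf⟩, (Subalgebra.mem_comap _ _ _).2 ⟨⟨f, hf⟩, rfl⟩, rfl⟩
    intro q
    obtain ⟨t', rfl⟩ := Ideal.Quotient.mkₐ_surjective k n q
    obtain ⟨t'', ht'', heq⟩ := Subalgebra.mem_map.1 ((sup_le hTU hFU : T ⊔ F ≤ U) t'.2)
    have : t'' = t' := Subtype.ext heq
    subst this
    obtain ⟨a, ha⟩ := (AlgHom.mem_range _).1 ((Subalgebra.mem_comap _ _ _).1 ht'')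
    exact ⟨a, ha⟩
  have : Algebra.FiniteType k ↥F := (Subalgebra.fg_iff_finiteType F).mp hFfg
  have : Algebra.FiniteType k (↥(T ⊔ F) ⧸ n) :=
    Algebra.FiniteType.of_surjective (π.comp ι) hsurj
  have : Nontrivial (↥(T ⊔ F) ⧸ n) := Ideal.Quotient.nontrivial_iff.2 hn
  obtain ⟨χ, -⟩ := Idem.exists_point_of_ne_top k (↥(T ⊔ F) ⧸ n) ⊥ bot_ne_top
  have hNN' : N ⊆ kerSet (T ⊔ F) (χ.comp π) := by
    intro a ha
    refine ⟨hTT' (hNT ha), ?_⟩
    show χ (π ⟨a, _⟩) = 0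
    rw [hπ0 a _ (hNJ ha), map_zero]
  exact ⟨(T ⊔ F, kerSet (T ⊔ F) (χ.comp π)),
    adm_of_point (T ⊔ F) hT' (hST.trans hTT') (χ.comp π) (hφ.trans hNN'), ⟨hTT', hNN'⟩,
    hFT' hxF'⟩

lemma adm_chain {S : Subalgebra k A} {φ : ↥S →ₐ[k] k} (c : Set (Subalgebra k A × Set A))
    (hcs : c ⊆ Adm S φ) (hc : IsChain (· ≤ ·) c) (y : Subalgebra k A × Set A) (hy : y ∈ c) :
    ∃ ub ∈ Adm S φ, ∀ z ∈ c, z ≤ ub := by
  classical
  have hne : (Prod.fst '' c).Nonempty := ⟨y.1, y, hy, rfl⟩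
  have hc1 : IsChain (· ≤ ·) (Prod.fst '' c) := by
    rintro _ ⟨p, hp, rfl⟩ _ ⟨q, hq, rfl⟩ _
    rcases hc.total hp hq with h | h
    · exact Or.inl h.1
    · exact Or.inr h.1
  have hle : ∀ p ∈ c, p.1 ≤ sSup (Prod.fst '' c) := fun p hp => le_sSup ⟨p, hp, rfl⟩
  have hmem : ∀ {a : A}, a ∈ sSup (Prod.fst '' c) → ∃ p ∈ c, a ∈ p.1 := by
    intro a ha
    obtain ⟨Γ, ⟨p, hp, rfl⟩, haΓ⟩ := (mem_sSup_of_chain hne hc1).1 ha
    exact ⟨p, hp, haΓ⟩
  have hfin : ∀ t : Finset A, (↑t : Set A) ⊆ {a | ∃ p ∈ c, a ∈ p.2} →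
      ∃ p ∈ c, (↑t : Set A) ⊆ p.2 := by
    intro t
    induction t using Finset.induction_on with
    | empty => intro _; exact ⟨y, hy, by simp⟩
    | insert a t _ ih =>
      intro h
      rw [Finset.coe_insert, Set.insert_subset_iff] at h
      obtain ⟨⟨p₁, hp₁, ha⟩, ht⟩ := h
      obtain ⟨p₂, hp₂, ht₂⟩ := ih ht
      rcases hc.total hp₁ hp₂ with h12 | h21
      · refine ⟨p₂, hp₂, ?_⟩
        rw [Finset.coe_insert, Set.insert_subset_iff]
        exact ⟨h12.2 ha, ht₂⟩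
      · refine ⟨p₁, hp₁, ?_⟩
        rw [Finset.coe_insert, Set.insert_subset_iff]
        exact ⟨ha, ht₂.trans h21.2⟩
  refine ⟨(sSup (Prod.fst '' c), {a | ∃ p ∈ c, a ∈ p.2}), ⟨?_, ?_, ?_, ?_, ?_, ?_⟩,
    fun z hz => ⟨hle z hz, fun a ha => ⟨z, hz, ha⟩⟩⟩
  · constructor
    · intro b hb
      obtain ⟨p, hp, hbp⟩ := hmem hb
      exact incl₂_range_mono (hle p hp) ((hcs hp).1.1 b hbp)
    · intro b hb
      obtain ⟨p, hp, hbp⟩ := hmem hb
      exact hle p hp ((hcs hp).1.2 b hbp)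
  · exact (hcs hy).2.1.trans (hle y hy)
  · rintro a ⟨p, hp, ha⟩
    exact hle p hp ((hcs hp).2.2.1 ha)
  · intro t ht
    obtain ⟨p, hp, htp⟩ := hmem ht
    obtain ⟨c', hc'⟩ := (hcs hp).2.2.2.1 t htp
    exact ⟨c', p, hp, hc'⟩
  · intro htop
    have h1 : (1 : A) ∈ Ideal.span {a | ∃ p ∈ c, a ∈ p.2} := by
      rw [htop]; exact Submodule.mem_top
    obtain ⟨t, htN, h1t⟩ := Submodule.mem_span_finite_of_mem_span h1
    obtain ⟨p, hp, htp⟩ := hfin t htN
    exact (hcs hp).2.2.2.2.1 ((Ideal.eq_top_iff_one _).2 (Ideal.span_mono htp h1t))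
  · exact fun a ha => ⟨y, hy, (hcs hy).2.2.2.2.2 ha⟩

/-- **Extension of rational points**: over an algebraically closed field, every rational point of a
Hopf subalgebra of a commutative Hopf algebra extends to the whole Hopf algebra. -/
theorem exists_extend [IsAlgClosed k] (S : Subalgebra k A) (hS : IsHopfSub S) (φ : ↥S →ₐ[k] k) :
    ∃ Φ : A →ₐ[k] k, ∀ x : ↥S, Φ (x : A) = φ x := by
  have h0 : (S, kerSet S φ) ∈ Adm S φ := adm_of_point S hS le_rfl φ subset_rfl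
  obtain ⟨m, -, hm⟩ := zorn_le_nonempty₀ (Adm S φ) adm_chain _ h0
  obtain ⟨T, N⟩ := m
  have hmA : (T, N) ∈ Adm S φ := hm.1
  have htop : ∀ x : A, x ∈ T := by
    intro x
    obtain ⟨q, hq, hpq, hxq⟩ := adm_step hmA x
    exact (hm.2 hq hpq).1 hxq
  obtain ⟨-, -, -, hk, hJ, hφ⟩ := hmA
  have : Nontrivial (A ⧸ Ideal.span N) := Ideal.Quotient.nontrivial_iff.2 hJ
  have hbij : Function.Bijective (algebraMap k (A ⧸ Ideal.span N)) := by
    refine ⟨(algebraMap k (A ⧸ Ideal.span N)).injective, fun q => ?_⟩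
    obtain ⟨a, rfl⟩ := Ideal.Quotient.mk_surjective q
    obtain ⟨c, hc⟩ := hk a (htop a)
    refine ⟨c, ?_⟩
    have : Ideal.Quotient.mk (Ideal.span N) (a - algebraMap k A c) = 0 :=
      Ideal.Quotient.eq_zero_iff_mem.2 (Ideal.subset_span hc)
    rw [map_sub, sub_eq_zero] at this
    exact this.symm
  let e : k ≃ₐ[k] (A ⧸ Ideal.span N) :=
    AlgEquiv.ofBijective (Algebra.ofId k (A ⧸ Ideal.span N)) hbij
  refine ⟨(e.symm : (A ⧸ Ideal.span N) →ₐ[k] k).comp (Ideal.Quotient.mkₐ k (Ideal.span N)),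
    fun x => ?_⟩
  have hx : (x : A) - algebraMap k A (φ x) ∈ N := hφ (sub_mem_kerSet S φ x.2)
  have h1 : Ideal.Quotient.mk (Ideal.span N) (x : A) = e (φ x) := by
    have : Ideal.Quotient.mk (Ideal.span N) ((x : A) - algebraMap k A (φ x)) = 0 :=
      Ideal.Quotient.eq_zero_iff_mem.2 (Ideal.subset_span hx)
    rw [map_sub, sub_eq_zero] at this
    exact this
  show e.symm (Ideal.Quotient.mk (Ideal.span N) (x : A)) = φ x
  rw [h1, AlgEquiv.symm_apply_apply]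

/-- **Density of rational points**: a non-nilpotent element of a commutative Hopf algebra over an
algebraically closed field does not vanish at some rational point. -/
theorem exists_point_ne_zero [IsAlgClosed k] (f : A) (hf : ¬ IsNilpotent f) :
    ∃ Φ : A →ₐ[k] k, Φ f ≠ 0 := by
  classical
  obtain ⟨F, hfF, hFfg, hF⟩ := exists_fg_hopfSub (k := k) (A := A) {f}
  have hfF' : f ∈ F := hfF (by simp)
  have : Algebra.FiniteType k ↥F := (Subalgebra.fg_iff_finiteType F).mp hFfg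
  have : IsJacobsonRing ↥F := isJacobsonRing_of_finiteType (A := k) (B := ↥F)
  have hf' : ¬ IsNilpotent (⟨f, hfF'⟩ : ↥F) := fun h => hf (h.map F.val)
  have h1 : (⟨f, hfF'⟩ : ↥F) ∉ (⊥ : Ideal ↥F).jacobson := by
    rw [← Ideal.radical_eq_jacobson]
    exact fun h => hf' (mem_nilradical.1 h)
  rw [Ideal.jacobson, Ideal.mem_sInf] at h1
  push Not at h1
  obtain ⟨M, ⟨-, hM⟩, hfM⟩ := h1
  obtain ⟨g, hg⟩ := Idem.exists_point_of_ne_top k ↥F M hM.ne_top
  have hker : M = RingHom.ker (g : ↥F →+* k) :=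
    hM.eq_of_le (RingHom.ker_ne_top _) (fun a ha => RingHom.mem_ker.2 (hg a ha))
  obtain ⟨Φ, hΦ⟩ := exists_extend F hF g
  refine ⟨Φ, fun h0 => hfM ?_⟩
  rw [hker]
  exact RingHom.mem_ker.2 ((hΦ ⟨f, hfF'⟩).symm.trans h0)

section Lift
variable {A' : Type u} [CommRing A'] [HopfAlgebra k A']

/-- bialgebra maps between commutative Hopf algebras commute with the antipodes -/
lemma bialgHom_antipode (ψ : A' →ₐc[k] A) (a : A') :
    HopfAlgebraStruct.antipode k (ψ a) = ψ (HopfAlgebraStruct.antipode k a) := by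
  have h1 : WithConv.toConv ((HopfAlgebra.antipodeAlgHom k A).comp (ψ : A' →ₐ[k] A)) *
      WithConv.toConv (ψ : A' →ₐ[k] A) = 1 := by
    have h := AlgHom.convMul_comp_bialgHom_distrib
      (WithConv.toConv (HopfAlgebra.antipodeAlgHom k A)) (WithConv.toConv (AlgHom.id k A)) ψ
    rw [AlgHom.antipode_id_cancel] at h
    apply WithConv.ofConv_injective
    simp only [AlgHom.id_comp] at h
    rw [← h]
    ext a
    simp [AlgHom.convOne_apply]
  have h2 : WithConv.toConv ((HopfAlgebra.antipodeAlgHom k A).comp (ψ : A' →ₐ[k] A)) =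
      (WithConv.toConv (ψ : A' →ₐ[k] A))⁻¹ := eq_inv_of_mul_eq_one_left h1
  have h3 : (WithConv.toConv (ψ : A' →ₐ[k] A))⁻¹ =
      WithConv.toConv ((ψ : A' →ₐ[k] A).comp (HopfAlgebra.antipodeAlgHom k A')) := rfl
  exact AlgHom.congr_fun (congrArg WithConv.ofConv (h2.trans h3)) a

/-- the range of a bialgebra map is a Hopf subalgebra -/
lemma isHopfSub_range (ψ : A' →ₐc[k] A) : IsHopfSub (ψ : A' →ₐ[k] A).range := by
  constructor
  · rintro _ ⟨a, rfl⟩
    have h1 : Coalgebra.comul (R := k) (ψ a) =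
        TensorProduct.map (ψ : A' →ₗ[k] A) (ψ : A' →ₗ[k] A) (Coalgebra.comul (R := k) a) :=
      (LinearMap.congr_fun (CoalgHomClass.map_comp_comul ψ) a).symm
    have h2 : ∀ t : A' ⊗[k] A', TensorProduct.map (ψ : A' →ₗ[k] A) (ψ : A' →ₗ[k] A) t ∈
        (incl₂ (ψ : A' →ₐ[k] A).range).range := by
      intro t
      induction t using TensorProduct.induction_on with
      | zero => rw [map_zero]; exact Subalgebra.zero_mem _
      | tmul a b =>
        exact ⟨(⟨ψ a, a, rfl⟩ : ↥(ψ : A' →ₐ[k] A).range) ⊗ₜ[k]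
          (⟨ψ b, b, rfl⟩ : ↥(ψ : A' →ₐ[k] A).range), rfl⟩
      | add x y hx hy => rw [map_add]; exact Subalgebra.add_mem _ hx hy
    show Coalgebra.comul (R := k) (ψ a) ∈ _
    rw [h1]
    exact h2 _
  · rintro _ ⟨a, rfl⟩
    exact ⟨HopfAlgebraStruct.antipode k a, (bialgHom_antipode ψ a).symm⟩

/-- **Surjectivity on rational points**: a bialgebra map `ψ : A' → A` of commutative Hopf algebras
over an algebraically closed field which is surjective on prime spectra is surjective on rational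
points. -/
theorem exists_lift_of_comap_surjective [IsAlgClosed k] (ψ : A' →ₐc[k] A)
    (hsurj : Function.Surjective (PrimeSpectrum.comap ((ψ : A' →ₐ[k] A) : A' →+* A)))
    (ξ : A' →ₐ[k] k) : ∃ Φ : A →ₐ[k] k, Φ.comp (ψ : A' →ₐ[k] A) = ξ := by
  set ψ₀ : A' →ₐ[k] A := (ψ : A' →ₐ[k] A) with hψ₀
  have hker : RingHom.ker ψ₀.rangeRestrict.toRingHom ≤ RingHom.ker ξ.toRingHom := by
    intro a ha
    have ha0 : ψ₀ a = 0 := congrArg Subtype.val (RingHom.mem_ker.1 ha)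
    have : (RingHom.ker (ξ : A' →+* k)).IsPrime := RingHom.ker_isPrime _
    obtain ⟨Q, hQ⟩ := hsurj ⟨RingHom.ker (ξ : A' →+* k), inferInstance⟩
    have h1 : a ∈ (PrimeSpectrum.comap (ψ₀ : A' →+* A) Q).asIdeal := by
      show (ψ₀ : A' →+* A) a ∈ Q.asIdeal
      have : (ψ₀ : A' →+* A) a = 0 := ha0
      rw [this]; exact Q.asIdeal.zero_mem
    rw [hQ] at h1
    exact h1
  let φ : ↥ψ₀.range →ₐ[k] k :=
    AlgHom.liftOfSurjective ψ₀.rangeRestrict (AlgHom.rangeRestrict_surjective ψ₀) ξ hker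
  have hφ : ∀ a, φ (ψ₀.rangeRestrict a) = ξ a := fun a =>
    AlgHom.liftOfSurjective_apply _ _ _ hker a
  obtain ⟨Φ, hΦ⟩ := exists_extend ψ₀.range (isHopfSub_range ψ) φ
  refine ⟨Φ, AlgHom.ext fun a => ?_⟩
  exact (hΦ (ψ₀.rangeRestrict a)).trans (hφ a)

end Lift

end Groth.Agent.H1.HopfSub.ExtPoint
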