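import Mathlib
import Groth.Agent.H1.ExtPoint.Alg

/-!
# Rational points of affine group schemes over an algebraically closed field

Scheme-theoretic translation of `Groth.Agent.H1.HopfSub.ExtPoint`: density of the rational points
of an affine group scheme over an algebraically closed field (no finiteness assumption), and
surjectivity on rational points of surjective homomorphisms.
-/

set_option autoImplicit false
universe u
open CategoryTheory MonoidalCategory CartesianMonoidalCategory MonObj GrpObj AlgebraicGeometry Opposite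

namespace Groth.Agent.H1.ExtPointScheme
open Groth.Agent.H1.HopfSub.ExtPoint

variable (k : Type u) [Field k]

section Pt
variable {k} {A : Type u} [CommRing A] [Algebra k A]

/-- the rational point of `Spec A` given by an algebra map `A → k` -/
noncomputable def ptOf (Φ : A →ₐ[k] k) : 𝟙_ (Over (Spec (CommRingCat.of k))) ⟶
    Over.mk (Spec.map (CommRingCat.ofHom (algebraMap k A))) :=
  Over.homMk (Spec.map (CommRingCat.ofHom Φ.toRingHom)) (by
    show Spec.map (CommRingCat.ofHom Φ.toRingHom) ≫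
      Spec.map (CommRingCat.ofHom (algebraMap k A)) = 𝟙 _
    rw [← Spec.map_comp, ← CommRingCat.ofHom_comp, AlgHom.toRingHom_eq_coe, AlgHom.comp_algebraMap,
      Algebra.algebraMap_self, CommRingCat.ofHom_id, Spec.map_id])

lemma ptOf_left (Φ : A →ₐ[k] k) :
    (ptOf Φ).left = Spec.map (CommRingCat.ofHom Φ.toRingHom) := rfl

/-- every rational point of `Spec A` comes from an algebra map `A → k` -/
lemma exists_ptOf_eq (p : 𝟙_ (Over (Spec (CommRingCat.of k))) ⟶
    Over.mk (Spec.map (CommRingCat.ofHom (algebraMap k A)))) : ∃ ξ : A →ₐ[k] k, ptOf ξ = p := by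
  have hw : p.left ≫ Spec.map (CommRingCat.ofHom (algebraMap k A)) =
      𝟙 (Spec (CommRingCat.of k)) := Over.w p
  have h1 : CommRingCat.ofHom (algebraMap k A) ≫ Spec.preimage p.left = 𝟙 (CommRingCat.of k) := by
    apply Spec.map_injective
    rw [Spec.map_comp, Spec.map_preimage, hw, Spec.map_id]
  refine ⟨⟨(Spec.preimage p.left).hom, fun r => ?_⟩, ?_⟩
  · have := congrArg (fun f => f.hom r) h1
    exact this
  · apply Over.OverMorphism.ext
    rw [ptOf_left]
    exact Spec.map_preimage p.left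

end Pt

section Iso
variable {k}
variable {G : Over (Spec (CommRingCat.of k))} {X : Over (Spec (CommRingCat.of k))}

lemma hom_inv_base (E : X ≅ G) (x : ↥G.left) : E.hom.left.base (E.inv.left.base x) = x := by
  have h : E.inv.left ≫ E.hom.left = 𝟙 _ := by rw [← Over.comp_left, E.inv_hom_id]; rfl
  exact congrArg (fun f => f.base x) h

lemma inv_hom_base (E : X ≅ G) (x : ↥X.left) : E.inv.left.base (E.hom.left.base x) = x := by
  have h : E.hom.left ≫ E.inv.left = 𝟙 _ := by rw [← Over.comp_left, E.hom_inv_id]; rfl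
  exact congrArg (fun f => f.base x) h

end Iso

/-- the point of `Spec A` underlying `ptOf Φ` lies in `D(f)` iff `Φ f ≠ 0` -/
lemma ptOf_mem_basicOpen {k : Type u} [Field k] {A : Type u} [CommRing A] [Algebra k A]
    (Φ : A →ₐ[k] k) (f : A) (hf : Φ f ≠ 0) :
    (Spec.map (CommRingCat.ofHom Φ.toRingHom)).base (IsLocalRing.closedPoint k) ∈
      (PrimeSpectrum.basicOpen f : Set (PrimeSpectrum A)) := by
  change f ∉ (PrimeSpectrum.comap Φ.toRingHom (IsLocalRing.closedPoint k)).asIdeal
  intro hmem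
  have h1 : Φ f ∈ IsLocalRing.maximalIdeal k := hmem
  rw [IsLocalRing.mem_maximalIdeal, mem_nonunits_iff, isUnit_iff_ne_zero] at h1
  exact h1 hf

/-- density of rational points, given an identification of `G` with the spectrum of a Hopf algebra -/
theorem dense_points_of_iso [IsAlgClosed k] (A : Type u) [CommRing A] [HopfAlgebra k A]
    (G : Over (Spec (CommRingCat.of k)))
    (E : Over.mk (Spec.map (CommRingCat.ofHom (algebraMap k A))) ≅ G) :
    Dense {x : ↥G.left | ∃ g : 𝟙_ (Over (Spec (CommRingCat.of k))) ⟶ G,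
      g.left.base (IsLocalRing.closedPoint k) = x} := by
  rw [dense_iff_inter_open]
  rintro U hU ⟨x, hx⟩
  let p : PrimeSpectrum A := E.inv.left.base x
  have hp : E.hom.left.base p = x := hom_inv_base E x
  have hV : IsOpen (E.hom.left.base ⁻¹' U) := hU.preimage E.hom.left.continuous
  have hpV : p ∈ E.hom.left.base ⁻¹' U := by
    show E.hom.left.base p ∈ U
    rw [hp]; exact hx
  obtain ⟨W, ⟨f, rfl⟩, hpf, hfV⟩ :=
    PrimeSpectrum.isTopologicalBasis_basic_opens.exists_subset_of_mem_open hpV hV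
  have hf : ¬ IsNilpotent f := fun hn =>
    (PrimeSpectrum.mem_basicOpen f p).1 hpf (nilradical_le_prime p.asIdeal (mem_nilradical.2 hn))
  obtain ⟨Φ, hΦ⟩ := exists_point_ne_zero (k := k) f hf
  refine ⟨E.hom.left.base ((Spec.map (CommRingCat.ofHom Φ.toRingHom)).base
    (IsLocalRing.closedPoint k)), hfV (ptOf_mem_basicOpen Φ f hΦ), ptOf Φ ≫ E.hom, rfl⟩

/-- surjectivity on rational points, given identifications with spectra of Hopf algebras -/
theorem exists_point_lift_of_iso [IsAlgClosed k] (A A' : Type u) [CommRing A] [HopfAlgebra k A]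
    [CommRing A'] [HopfAlgebra k A'] (G G' : Over (Spec (CommRingCat.of k)))
    (E : Over.mk (Spec.map (CommRingCat.ofHom (algebraMap k A))) ≅ G)
    (E' : Over.mk (Spec.map (CommRingCat.ofHom (algebraMap k A'))) ≅ G')
    (h : G ⟶ G') (ψ : A' →ₐc[k] A)
    (hψ : Spec.map (CommRingCat.ofHom ((ψ : A' →ₐ[k] A) : A' →+* A)) =
      E.hom.left ≫ h.left ≫ E'.inv.left)
    (hs : Surjective h.left) (x : 𝟙_ (Over (Spec (CommRingCat.of k))) ⟶ G') :
    ∃ g : 𝟙_ (Over (Spec (CommRingCat.of k))) ⟶ G, g ≫ h = x := by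
  have hsurj : Function.Surjective (PrimeSpectrum.comap ((ψ : A' →ₐ[k] A) : A' →+* A)) := by
    intro P
    obtain ⟨z, hz⟩ := hs.surj (E'.hom.left.base P)
    refine ⟨E.inv.left.base z, ?_⟩
    have h1 : (Spec.map (CommRingCat.ofHom ((ψ : A' →ₐ[k] A) : A' →+* A))).base
        (E.inv.left.base z) = P := by
      rw [hψ]
      simp only [Scheme.Hom.comp_base, TopCat.hom_comp, ContinuousMap.comp_apply]
      rw [hom_inv_base E z, hz, inv_hom_base E' P]
    exact h1
  obtain ⟨ξ, hξ⟩ := exists_ptOf_eq (x ≫ E'.inv)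
  obtain ⟨Φ, hΦ⟩ := exists_lift_of_comap_surjective ψ hsurj ξ
  refine ⟨ptOf Φ ≫ E.hom, ?_⟩
  apply Over.OverMorphism.ext
  have h2 : Spec.map (CommRingCat.ofHom Φ.toRingHom) ≫
      Spec.map (CommRingCat.ofHom ((ψ : A' →ₐ[k] A) : A' →+* A)) =
      Spec.map (CommRingCat.ofHom ξ.toRingHom) := by
    rw [← Spec.map_comp, ← CommRingCat.ofHom_comp, ← hΦ]
    rfl
  have h3 : (ptOf ξ).left = x.left ≫ E'.inv.left := by rw [hξ]; rfl
  calc (ptOf Φ ≫ E.hom ≫ h).left
      = Spec.map (CommRingCat.ofHom Φ.toRingHom) ≫ (E.hom.left ≫ h.left ≫ E'.inv.left) ≫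
          E'.hom.left := by
        simp only [Over.comp_left, ptOf_left, Category.assoc]
        have : E'.inv.left ≫ E'.hom.left = 𝟙 _ := by rw [← Over.comp_left, E'.inv_hom_id]; rfl
        rw [this, Category.comp_id]
    _ = x.left := by
        rw [← hψ, ← Category.assoc, h2, ← ptOf_left, h3, Category.assoc]
        have : E'.inv.left ≫ E'.hom.left = 𝟙 _ := by rw [← Over.comp_left, E'.inv_hom_id]; rfl
        rw [this, Category.comp_id]

/-- S14537 -/
theorem dense_points [IsAlgClosed k] (G : Over (Spec (CommRingCat.of k))) [GrpObj G]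
    [IsAffine G.left] :
    Dense {x : ↥G.left | ∃ g : 𝟙_ (Over (Spec (CommRingCat.of k))) ⟶ G,
      g.left.base (IsLocalRing.closedPoint k) = x} := by
  obtain ⟨Y, ⟨e⟩⟩ : (hopfSpec (CommRingCat.of k)).essImage (Grp.mk G) :=
    essImage_hopfSpec.mpr ‹_›
  exact dense_points_of_iso k ↑(unop Y) G ((Grp.forget _).mapIso e)

/-- S14536 -/
theorem points_surjective [IsAlgClosed k] (G G' : Over (Spec (CommRingCat.of k))) [GrpObj G]
    [GrpObj G'] [IsAffine G.left] [IsAffine G'.left] (h : G ⟶ G') [IsMonHom h]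
    (hs : Surjective h.left) (x : 𝟙_ (Over (Spec (CommRingCat.of k))) ⟶ G') :
    ∃ g : 𝟙_ (Over (Spec (CommRingCat.of k))) ⟶ G, g ≫ h = x := by
  obtain ⟨Y, ⟨e⟩⟩ : (hopfSpec (CommRingCat.of k)).essImage (Grp.mk G) :=
    essImage_hopfSpec.mpr ‹_›
  obtain ⟨Y', ⟨e'⟩⟩ : (hopfSpec (CommRingCat.of k)).essImage (Grp.mk G') :=
    essImage_hopfSpec.mpr ‹_›
  let ψ' := hopfSpec.fullyFaithful.preimage
    (e.hom ≫ (Grp.homMk h : Grp.mk G ⟶ Grp.mk G') ≫ e'.inv)
  have hψ' : (hopfSpec (CommRingCat.of k)).map ψ' = e.hom ≫ Grp.homMk h ≫ e'.inv :=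
    hopfSpec.fullyFaithful.map_preimage _
  let ψ : ↑(unop Y') →ₐc[k] ↑(unop Y) := ψ'.unop.hom'
  let E : Over.mk (Spec.map (CommRingCat.ofHom (algebraMap k ↑(unop Y)))) ≅ G :=
    (Grp.forget _).mapIso e
  let E' : Over.mk (Spec.map (CommRingCat.ofHom (algebraMap k ↑(unop Y')))) ≅ G' :=
    (Grp.forget _).mapIso e'
  have h1 : ((hopfSpec (CommRingCat.of k)).map ψ').hom.hom.left =
      Spec.map (CommRingCat.ofHom
        ((ψ : ↑(unop Y') →ₐ[k] ↑(unop Y)) : ↑(unop Y') →+* ↑(unop Y))) := rfl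
  have h2 : Spec.map (CommRingCat.ofHom
      ((ψ : ↑(unop Y') →ₐ[k] ↑(unop Y)) : ↑(unop Y') →+* ↑(unop Y))) =
      E.hom.left ≫ h.left ≫ E'.inv.left := by
    rw [← h1, hψ']
    rfl
  exact exists_point_lift_of_iso k ↑(unop Y) ↑(unop Y') G G' E E' h ψ h2 hs x

end Groth.Agent.H1.ExtPointScheme
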